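import Cfsg.Agent.Lib.Offender.Plane
import Mathlib

/-!
# `SL(2, p)` in an automorphism group of a plane without normal `p`-subgroups.
-/

set_option autoImplicit false

namespace Cfsg.Agent.Lib.EssP2

open Cfsg.Agent.Lib.Offender Module
open scoped MatrixGroups

variable {p : ℕ} [hp : Fact p.Prime] {Γ M : Type*} [Group Γ] [AddCommGroup M] [Module (ZMod p) M]
variable {ρ : Γ →* Module.End (ZMod p) M}

/-- A `p`-element has a non-zero fixed vector. -/
theorem exists_fixed [Finite M] (hM : 0 < finrank (ZMod p) M) {t : Γ} {k : ℕ} (ht : t ^ p ^ k = 1) :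
    ∃ u : M, u ≠ 0 ∧ ρ t u = u := by
  classical
  letI act : MulAction (Subgroup.zpowers t) M :=
    { smul := fun g v => ρ g v
      one_smul := fun v => rho_one v
      mul_smul := fun a b v => rho_mul (a : Γ) b v }
  have hG : IsPGroup p (Subgroup.zpowers t) := by
    rintro ⟨g, m, rfl⟩
    refine ⟨k, ?_⟩
    apply Subtype.ext
    simp only [SubmonoidClass.coe_pow, OneMemClass.coe_one]
    change (t ^ m) ^ p ^ k = 1
    rw [← zpow_natCast, ← zpow_mul, mul_comm, zpow_mul, zpow_natCast, ht, one_zpow]
  have hpd : p ∣ Nat.card M := by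
    letI := Fintype.ofFinite M
    letI : Fintype (ZMod p) := ZMod.fintype p
    rw [Nat.card_eq_fintype_card, Module.card_eq_pow_finrank (K := ZMod p), ZMod.card]
    exact dvd_pow_self p hM.ne'
  have h0 : (0 : M) ∈ MulAction.fixedPoints (Subgroup.zpowers t) M := by
    intro g
    exact map_zero _
  obtain ⟨u, hu, hne⟩ := hG.exists_fixed_point_of_prime_dvd_card_of_fixed_point M hpd h0
  exact ⟨u, hne.symm, hu ⟨t, Subgroup.mem_zpowers t⟩⟩

/-- Nontrivial `p`-elements of `GL₂(p)` are transvections. -/
theorem tv_of_pElement [Finite M] (hdim : finrank (ZMod p) M = 2) (hinj : Function.Injective ρ)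
    {t : Γ} {k : ℕ} (ht : t ^ p ^ k = 1) (ht1 : t ≠ 1) : ∃ u f, Tv ρ t u f := by
  classical
  obtain ⟨u, hu0, hu⟩ := exists_fixed (ρ := ρ) (by omega : 0 < finrank (ZMod p) M) ht
  -- a vector outside the span of `u`
  have hex : ∃ v : M, v ∉ Submodule.span (ZMod p) {u} := by
    by_contra hcon
    push Not at hcon
    have h1 : Submodule.span (ZMod p) {u} = ⊤ := eq_top_iff.mpr fun v _ => hcon v
    have h2 := finrank_span_singleton (K := ZMod p) hu0
    rw [h1, finrank_top, hdim] at h2
    omega
  obtain ⟨v, hv⟩ := hex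
  have hli : LinearIndependent (ZMod p) ![u, v] := by
    rw [LinearIndependent.pair_iff' hu0]
    intro a h
    exact hv (by rw [← h]; exact Submodule.smul_mem _ _ (Submodule.mem_span_singleton_self u))
  let b : Basis (Fin 2) (ZMod p) M := basisOfLinearIndependentOfCardEqFinrank hli (by simp [hdim])
  have hb0 : b 0 = u := by simp [b]
  have hb1 : b 1 = v := by simp [b]
  have hdec : ∀ w : M, w = b.coord 0 w • u + b.coord 1 w • v := by
    intro w
    have h1 := b.sum_repr w
    rw [Fin.sum_univ_two, hb0, hb1] at h1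
    exact h1.symm
  -- the action on `v`
  have hind : ∀ x y : ZMod p, x • u + y • v = 0 → x = 0 ∧ y = 0 := by
    intro x y h
    have h1 := LinearIndependent.pair_iff.mp hli x y h
    exact h1
  set a := b.coord 0 (ρ t v) with ha
  set δ := b.coord 1 (ρ t v) with hδ
  have htv : ρ t v = a • u + δ • v := hdec _
  have hpow : ∀ n : ℕ, ∃ c : ZMod p, ρ (t ^ n) v = c • u + δ ^ n • v := by
    intro n
    induction n with
    | zero => exact ⟨0, by simp [rho_one]⟩
    | succ n ih =>
      obtain ⟨c, hc⟩ := ih
      refine ⟨c + δ ^ n * a, ?_⟩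
      rw [pow_succ', rho_mul, hc, map_add, map_smul, map_smul, hu, htv, pow_succ']; module
  have hδ1 : δ = 1 := by
    obtain ⟨c, hc⟩ := hpow (p ^ k)
    rw [ht, rho_one, ZMod.pow_card_pow] at hc
    have h1 : c • u + (δ - 1) • v = 0 := by
      rw [sub_smul, one_smul]
      have : c • u + δ • v - v = 0 := by rw [← hc, sub_self]
      rw [← this]
      abel
    have h2 := (hind _ _ h1).2
    exact sub_eq_zero.mp h2
  have htv' : ρ t v = v + a • u := by
    rw [htv, hδ1, one_smul, add_comm]
  have hact : ∀ w, ρ t w = w + (a • b.coord 1) w • u := by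
    intro w
    have h := hdec w
    simp only [LinearMap.smul_apply, smul_eq_mul]
    generalize b.coord 0 w = c0 at h ⊢
    generalize b.coord 1 w = c1 at h ⊢
    calc ρ t w = ρ t (c0 • u + c1 • v) := by rw [← h]
      _ = c0 • u + c1 • (v + a • u) := by rw [map_add, map_smul, map_smul, hu, htv']
      _ = (c0 • u + c1 • v) + (a * c1) • u := by module
      _ = w + (a * c1) • u := by rw [← h]
  have ha0 : a ≠ 0 := by
    intro h0
    apply ht1
    apply hinj
    rw [map_one]
    apply LinearMap.ext
    intro w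
    rw [hact, h0]
    simp
  refine ⟨u, a • b.coord 1, hu0, ?_, ?_, hact⟩
  · intro h0
    have h1 := congrArg (fun g : M →ₗ[ZMod p] ZMod p => g v) h0
    simp only [LinearMap.smul_apply, smul_eq_mul, LinearMap.zero_apply] at h1
    rw [← hb1, Basis.coord_apply, Basis.repr_self] at h1
    simp at h1
    exact ha0 h1
  · simp only [LinearMap.smul_apply, smul_eq_mul]
    rw [← hb0, Basis.coord_apply, Basis.repr_self]
    simp

/-- Main reduction. -/
theorem exists_sl2 [Finite Γ] [Finite M] (hdim : finrank (ZMod p) M = 2)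
    (hinj : Function.Injective ρ) (hpd : p ∣ Nat.card Γ)
    (hO : ∀ B : Subgroup Γ, B.Normal → IsPGroup p B → B = ⊥) :
    ∃ K : Subgroup Γ, Nonempty (K ≃* SL(2, ZMod p)) := by
  classical
  obtain ⟨t, ht⟩ := exists_prime_orderOf_dvd_card' (G := Γ) p hpd
  have ht1 : t ≠ 1 := by
    rintro rfl
    rw [orderOf_one] at ht
    exact hp.out.one_lt.ne ht
  have htp : t ^ p ^ 1 = 1 := by
    rw [pow_one, ← ht, pow_orderOf_eq_one]
  obtain ⟨u, f, htv⟩ := tv_of_pElement hdim hinj htp ht1
  -- a functional vanishing on `u` and nonzero has kernel the span of `u`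
  have hker : ∀ (w : M) (g : M →ₗ[ZMod p] ZMod p), g ≠ 0 → g w = 0 → w ≠ 0 →
      ∀ x, g x = 0 → ∃ c : ZMod p, x = c • w := by
    intro w g hg hgw hw x hx
    have h1 : finrank (ZMod p) (LinearMap.ker g) = 1 := by
      have h2 := LinearMap.finrank_range_add_finrank_ker g
      have h3 : LinearMap.range g = ⊤ := LinearMap.range_eq_top.mpr (LinearMap.surjective hg)
      rw [h3, finrank_top, finrank_self, hdim] at h2
      omega
    obtain ⟨w', hw'0, hw'⟩ := finrank_eq_one_iff'.mp h1
    obtain ⟨c₁, hc₁⟩ := hw' ⟨w, hgw⟩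
    obtain ⟨c₂, hc₂⟩ := hw' ⟨x, hx⟩
    have hc₁0 : c₁ ≠ 0 := by
      rintro rfl
      apply hw
      have := congrArg Subtype.val hc₁
      simpa using this.symm
    refine ⟨c₂ / c₁, ?_⟩
    have e1 : w = c₁ • (w' : M) := (congrArg Subtype.val hc₁).symm
    have e2 : x = c₂ • (w' : M) := (congrArg Subtype.val hc₂).symm
    rw [e1, e2, smul_smul, div_mul_cancel₀ _ hc₁0]
  by_cases hall : ∀ (s : Γ) (k : ℕ), s ^ p ^ k = 1 → s ≠ 1 → ∃ (g : M →ₗ[ZMod p] ZMod p),
      Tv ρ s u g
  · -- all `p`-elements are transvections with centre `u`: a normal `p`-subgroup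
    exfalso
    let T₀ : Subgroup Γ :=
      { carrier := {a | ∃ g : M →ₗ[ZMod p] ZMod p, g u = 0 ∧ ∀ v, ρ a v = v + g v • u}
        mul_mem' := by
          rintro a c ⟨g₁, h₁, e₁⟩ ⟨g₂, h₂, e₂⟩
          refine ⟨g₁ + g₂, by simp [h₁, h₂], fun v => ?_⟩
          rw [rho_mul, e₂, map_add, map_smul, e₁ v, e₁ u, h₁]
          simp only [LinearMap.add_apply, add_smul, zero_smul, add_zero]
          abel
        one_mem' := ⟨0, by simp, fun v => by simp [rho_one]⟩
        inv_mem' := by
          rintro a ⟨g₁, h₁, e₁⟩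
          refine ⟨-g₁, by simp [h₁], fun v => ?_⟩
          apply rho_eq_of_eq_inv
          rw [map_add, map_smul, e₁ v, e₁ u, h₁]
          simp only [LinearMap.neg_apply, neg_smul, zero_smul, add_zero]
          abel }
    have hT₀p : ∀ a ∈ T₀, a ^ p = 1 := by
      rintro a ⟨g₁, h₁, e₁⟩
      by_cases hg : g₁ = 0
      · have : a = 1 := by
          apply hinj
          rw [map_one]
          apply LinearMap.ext
          intro v
          rw [e₁, hg]
          simp
        rw [this, one_pow]
      · exact Tv.pow_p hinj ⟨htv.u_ne, hg, h₁, e₁⟩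
    have hT₀n : T₀.Normal := by
      refine ⟨fun a ha g => ?_⟩
      by_cases ha1 : a = 1
      · rw [ha1]
        simp [T₀.one_mem]
      · have hap := hT₀p a ha
        have h1 : (g * a * g⁻¹) ^ p ^ 1 = 1 := by
          rw [pow_one, conj_pow, hap]
          simp
        have h2 : g * a * g⁻¹ ≠ 1 := by
          intro h
          apply ha1
          have : a = g⁻¹ * (g * a * g⁻¹) * g := by group
          rw [this, h]
          group
        obtain ⟨g₂, hg₂⟩ := hall _ 1 h1 h2
        exact ⟨g₂, hg₂.fu, hg₂.act⟩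
    have hT₀P : IsPGroup p T₀ := by
      rintro ⟨a, ha⟩
      exact ⟨1, Subtype.ext (by simpa using hT₀p a ha)⟩
    have h1 := hO T₀ hT₀n hT₀P
    have h2 : t ∈ T₀ := ⟨f, htv.fu, htv.act⟩
    rw [h1] at h2
    exact ht1 (Subgroup.mem_bot.mp h2)
  · push Not at hall
    obtain ⟨s, k, hsk, hs1, hno⟩ := hall
    obtain ⟨w, g, hsv⟩ := tv_of_pElement hdim hinj hsk hs1
    -- the centres are different
    have hfw : f w ≠ 0 := by
      intro h0
      obtain ⟨c, hc⟩ := hker u f htv.f_ne htv.fu htv.u_ne w h0
      have hc0 : c ≠ 0 := by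
        rintro rfl
        apply hsv.u_ne
        simpa using hc
      apply hno (c • g)
      refine ⟨htv.u_ne, smul_ne_zero hc0 hsv.f_ne, ?_, ?_⟩
      · have h3 := hsv.fu
        rw [hc, map_smul, smul_eq_mul] at h3
        simpa [smul_eq_mul] using h3
      · intro v
        rw [hsv.act, hc]
        simp only [LinearMap.smul_apply, smul_smul, smul_eq_mul]
        rw [mul_comm]
    have hgu : g u ≠ 0 := by
      intro h0
      obtain ⟨c, hc⟩ := hker w g hsv.f_ne hsv.fu hsv.u_ne u h0
      apply hfw
      have h3 := htv.fu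
      rw [hc, map_smul, smul_eq_mul] at h3
      have hc0 : c ≠ 0 := by
        rintro rfl
        apply htv.u_ne
        simpa using hc
      exact (mul_eq_zero.mp h3).resolve_left hc0
    obtain ⟨φ, -⟩ := plane_of_tv hinj htv hsv hfw hgu
    exact ⟨_, ⟨φ⟩⟩

/-- The automorphism version, for commutative groups with a vector space structure. -/
theorem exists_sl2_of_aut' {X : Type*} [CommGroup X] [Finite X] [Module (ZMod p) (Additive X)]
    (hcard : Nat.card X = p ^ 2) (A : Subgroup (MulAut X))
    [Finite A] (hpd : p ∣ Nat.card A) (hO : ∀ B : Subgroup A, B.Normal → IsPGroup p B → B = ⊥) :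
    ∃ K : Subgroup A, Nonempty (K ≃* SL(2, ZMod p)) := by
  classical
  have hf : Finite (Additive X) := inferInstanceAs (Finite X)
  have hdim : finrank (ZMod p) (Additive X) = 2 := by
    letI := Fintype.ofFinite (Additive X)
    letI : Fintype (ZMod p) := ZMod.fintype p
    have h1 : Fintype.card (Additive X) = p ^ 2 := by
      rw [← Nat.card_eq_fintype_card]
      exact hcard
    rw [Module.card_eq_pow_finrank (K := ZMod p), ZMod.card] at h1
    exact Nat.pow_right_injective hp.out.two_le h1
  let ρ : A →* Module.End (ZMod p) (Additive X) :=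
    { toFun := fun a =>
        (MonoidHom.toAdditive ((a : MulAut X).toMonoidHom : X →* X)).toZModLinearMap p
      map_one' := LinearMap.ext fun v => rfl
      map_mul' := fun a b => LinearMap.ext fun v => rfl }
  have hρ : ∀ (a : A) (x : X), ρ a (Additive.ofMul x) = Additive.ofMul ((a : MulAut X) x) :=
    fun a x => rfl
  have hinj : Function.Injective ρ := by
    intro a b hab
    apply Subtype.ext
    apply MulEquiv.ext
    intro x
    have h1 := congrArg (fun f : Module.End (ZMod p) (Additive X) => f (Additive.ofMul x)) hab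
    simp only [hρ] at h1
    exact Additive.ofMul.injective h1
  exact exists_sl2 hdim hinj hpd hO

/-- The automorphism version. -/
theorem exists_sl2_of_aut {X : Type*} [Group X] [Finite X] (hcomm : ∀ a b : X, a * b = b * a)
    (hexp : ∀ x : X, x ^ p = 1) (hcard : Nat.card X = p ^ 2) (A : Subgroup (MulAut X))
    [Finite A] (hpd : p ∣ Nat.card A) (hO : ∀ B : Subgroup A, B.Normal → IsPGroup p B → B = ⊥) :
    ∃ K : Subgroup A, Nonempty (K ≃* SL(2, ZMod p)) := by
  letI cg : CommGroup X := { (inferInstance : Group X) with mul_comm := hcomm }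
  letI hmod : Module (ZMod p) (Additive X) := AddCommGroup.zmodModule (n := p) (fun x => by
    change Additive.ofMul (x.toMul ^ p) = 0
    rw [hexp]
    rfl)
  exact exists_sl2_of_aut' hcard A hpd hO

/-- A cyclic group has commuting automorphisms. -/
theorem mulAut_comm_of_cyclic {X : Type*} [Group X] [IsCyclic X] (α β : MulAut X) :
    α * β = β * α := by
  obtain ⟨g, hg⟩ := IsCyclic.exists_generator (α := X)
  obtain ⟨i, hi⟩ := hg (α g)
  obtain ⟨j, hj⟩ := hg (β g)
  simp only at hi hj
  apply MulEquiv.ext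
  intro x
  obtain ⟨m, rfl⟩ := hg x
  have e1 : α (β g) = g ^ (i * j) := by rw [← hj, map_zpow, ← hi, zpow_mul]
  have e2 : β (α g) = g ^ (i * j) := by rw [← hi, map_zpow, ← hj, ← zpow_mul, mul_comm]
  simp only [MulAut.mul_apply, map_zpow, e1, e2]

/-- A group of automorphisms of a group of order `p²` without normal `p`-subgroups, of order
divisible by `p`: the group has exponent `p` and the automorphisms contain `SL(2, p)`. -/
theorem main {X : Type*} [Group X] [Finite X] (hcard : Nat.card X = p ^ 2)
    (A : Subgroup (MulAut X)) [Finite A] (hpd : p ∣ Nat.card A)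
    (hO : ∀ B : Subgroup A, B.Normal → IsPGroup p B → B = ⊥) :
    (∀ a b : X, a * b = b * a) ∧ (∀ x : X, x ^ p = 1) ∧
      ∃ K : Subgroup A, Nonempty (K ≃* SL(2, ZMod p)) := by
  classical
  have hcomm : ∀ a b : X, a * b = b * a := fun a b =>
    (IsPGroup.isMulCommutative_of_card_eq_prime_sq hcard).is_comm.comm a b
  have hexp : ∀ x : X, x ^ p = 1 := by
    intro x
    by_contra hne
    have hd : orderOf x ∣ p ^ 2 := by
      rw [← hcard]
      exact orderOf_dvd_natCard x
    obtain ⟨j, hj, hj2⟩ := (Nat.dvd_prime_pow hp.out).mp hd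
    have hj3 : j = 2 := by
      by_contra hcon
      apply hne
      have h1 : j ≤ 1 := by omega
      have h2 : orderOf x ∣ p := by
        rw [hj2]
        exact (pow_dvd_pow p h1).trans (by rw [pow_one])
      exact orderOf_dvd_iff_pow_eq_one.mp h2
    haveI : IsCyclic X := isCyclic_of_orderOf_eq_card x (by rw [hj2, hj3, hcard])
    obtain ⟨t, ht⟩ := exists_prime_orderOf_dvd_card' (G := A) p hpd
    have ht1 : t ≠ 1 := by
      rintro rfl
      rw [orderOf_one] at ht
      exact hp.out.one_lt.ne ht
    have hcommA : ∀ a b : A, a * b = b * a := fun a b =>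
      Subtype.ext (mulAut_comm_of_cyclic (a : MulAut X) b)
    have hn : (Subgroup.zpowers t).Normal := by
      refine ⟨fun a ha g => ?_⟩
      rw [hcommA g a]
      simpa using ha
    have hP : IsPGroup p (Subgroup.zpowers t) := by
      rw [IsPGroup.iff_card]
      exact ⟨1, by rw [Nat.card_zpowers, ht, pow_one]⟩
    have h1 := hO _ hn hP
    apply ht1
    have h2 : t ∈ Subgroup.zpowers t := Subgroup.mem_zpowers t
    rw [h1] at h2
    exact Subgroup.mem_bot.mp h2
  exact ⟨hcomm, hexp, exists_sl2_of_aut hcomm hexp hcard A hpd hO⟩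

end Cfsg.Agent.Lib.EssP2
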